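import Groth.Agent.NormalBC.Normal
import Groth.Prelude.Def_EGA4b
import Mathlib

/-!
Normal rings: division with integrality, total fractions of reduced Noetherian rings.
-/

set_option autoImplicit false
set_option linter.style.haveILetI false

universe u

namespace Groth.Agent.CplNormal

open Polynomial

/-- In a normal ring a quotient `b / s` satisfying a monic equation is a member, in the form `b ∈ (s)`. -/
theorem mem_span_of_scaleRoots {R : Type u} [CommRing R] (hR : EGA4.IsNormalRing R) {b s : R} {p : R[X]}
    (hp : p.Monic) (h : (p.scaleRoots s).eval b = 0) : b ∈ Ideal.span {s} := by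
  by_contra hn
  obtain ⟨P, hP, hle⟩ := Ideal.exists_le_maximal ((Ideal.span {s}).colon {b}) (fun htop => hn (by
    have h1 : (1 : R) ∈ (Ideal.span {s}).colon {b} := htop ▸ trivial
    rwa [Submodule.mem_colon_singleton, one_smul] at h1))
  haveI := hP.isPrime
  obtain ⟨hdom, hic⟩ := hR P
  haveI := hdom
  haveI := hic
  let φ := algebraMap R (Localization.AtPrime P)
  have key : φ b ∈ (Ideal.span {s}).map φ := by
    have h1 : ((p.map φ).scaleRoots (φ s)).eval (φ b) = 0 := by
      rw [← Polynomial.map_scaleRoots p s φ (by rw [hp.leadingCoeff, map_one]; exact one_ne_zero),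
        Polynomial.eval_map, Polynomial.eval₂_hom, h, map_zero]
    rw [Ideal.map_span, Set.image_singleton]
    by_cases hs : φ s = 0
    · rw [hs, scaleRoots_zero, (hp.map φ).leadingCoeff, one_smul, eval_pow, eval_X] at h1
      rw [(pow_eq_zero_iff'.mp h1).1]
      exact Submodule.zero_mem _
    · let K := FractionRing (Localization.AtPrime P)
      let ι := algebraMap (Localization.AtPrime P) K
      have hιs : ι (φ s) ≠ 0 := fun h0 => hs (IsFractionRing.injective _ K (h0.trans (map_zero ι).symm))
      have h2 : eval₂ ι (ι (φ b) / ι (φ s)) (p.map φ) = 0 := by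
        have h3 := scaleRoots_eval₂_mul (p := p.map φ) ι (ι (φ b) / ι (φ s)) (φ s)
        rw [mul_div_cancel₀ _ hιs, eval₂_at_apply, h1, map_zero] at h3
        exact (mul_eq_zero.mp h3.symm).resolve_left (pow_ne_zero _ hιs)
      obtain ⟨y, hy⟩ := IsIntegrallyClosed.isIntegral_iff.mp
        (⟨p.map φ, hp.map φ, h2⟩ : IsIntegral (Localization.AtPrime P) (ι (φ b) / ι (φ s)))
      refine Ideal.mem_span_singleton.mpr ⟨y, IsFractionRing.injective _ K ?_⟩
      show ι (φ b) = ι (φ s * y)
      rw [map_mul, show ι y = _ from hy, mul_div_cancel₀ _ hιs]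
  obtain ⟨m, hm, hmem⟩ := (IsLocalization.algebraMap_mem_map_algebraMap_iff P.primeCompl _ _ _).mp key
  exact hm (hle (Submodule.mem_colon_singleton.mpr hmem))

/-- The total ring of fractions of a reduced Noetherian ring is semisimple. -/
theorem isSemisimpleRing_fractionRing (R : Type u) [CommRing R] [IsNoetherianRing R] [IsReduced R] :
    IsSemisimpleRing (FractionRing R) := by
  let L := FractionRing R
  haveI : IsNoetherianRing L := IsLocalization.isNoetherianRing (nonZeroDivisors R) L inferInstance
  haveI : IsReduced L := inferInstance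
  have hmin : ∀ P : Ideal L, P.IsPrime → P.comap (algebraMap R L) ∈ minimalPrimes R := by
    intro P hP
    have hdisj := ((IsLocalization.isPrime_iff_isPrime_disjoint (nonZeroDivisors R) L P).mp hP).2
    have hsub : ((P.comap (algebraMap R L) : Ideal R) : Set R) ⊆ ⋃ q ∈ minimalPrimes R, (id q : Ideal R) := by
      intro x hx
      have hx' : x ∉ nonZeroDivisors R := fun h => Set.disjoint_left.mp hdisj h hx
      rw [mem_nonZeroDivisors_iff_right] at hx'
      push_neg at hx'
      obtain ⟨y, hy, hy0⟩ := hx'
      obtain ⟨q, hq, hyq⟩ : ∃ q ∈ minimalPrimes R, y ∉ q := by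
        by_contra hall
        push_neg at hall
        apply hy0
        have h1 : y ∈ sInf (⊥ : Ideal R).minimalPrimes := Ideal.mem_sInf.mpr fun {q} hq => hall q hq
        rw [Ideal.sInf_minimalPrimes] at h1
        simpa [← nilradical_eq_zero R, nilradical] using h1
      haveI : q.IsPrime := hq.1.1
      exact Set.mem_biUnion hq ((Ideal.IsPrime.mem_or_mem ‹_› (hy ▸ q.zero_mem : y * x ∈ q)).resolve_left hyq)
    obtain ⟨q, hq, hle⟩ := (Ideal.subset_union_prime_finite (minimalPrimes.finite_of_isNoetherianRing R)
      (⊤ : Ideal R) ⊤ (fun i hi _ _ => hi.1.1)).mp hsub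
    exact le_antisymm (hle) (hq.2 ⟨Ideal.IsPrime.comap _, bot_le⟩ hle) ▸ hq
  haveI : Ring.KrullDimLE 0 L := Ring.krullDimLE_zero_iff.mpr fun P hP => by
    obtain ⟨M, hM, hle⟩ := Ideal.exists_le_maximal P hP.ne_top
    haveI := hP
    have h1 : M.comap (algebraMap R L) ≤ P.comap (algebraMap R L) :=
      (hmin M hM.isPrime).2 ⟨Ideal.IsPrime.comap _, bot_le⟩ (Ideal.comap_mono hle)
    have h2 : M ≤ P := by
      rw [← IsLocalization.map_comap (nonZeroDivisors R) L M, ← IsLocalization.map_comap (nonZeroDivisors R) L P]
      exact Ideal.map_mono h1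
    exact le_antisymm hle h2 ▸ hM
  haveI : IsArtinianRing L := isArtinianRing_iff_krullDimLE_zero.mpr inferInstance
  exact IsArtinianRing.isSemisimpleRing_of_isReduced L

/-- A reduced Artinian ring is normal. -/
theorem isNormalRing_of_semisimple (L : Type u) [CommRing L] [IsSemisimpleRing L] : EGA4.IsNormalRing L :=
  fun P _ => by
    haveI : IsReduced (Localization.AtPrime P) := inferInstance
    haveI : IsArtinianRing (Localization.AtPrime P) :=
      (IsArtinianRing.localization_surjective P.primeCompl (Localization.AtPrime P)).isArtinianRing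
    have hf := IsArtinianRing.isField_of_isReduced_of_isLocalRing (Localization.AtPrime P)
    letI := hf.toField
    exact ⟨inferInstance, inferInstance⟩

end Groth.Agent.CplNormal
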