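import Mathlib.RingTheory.AdicCompletion.AsTensorProduct
import Mathlib.RingTheory.AdicCompletion.Algebra
import Mathlib.RingTheory.Flat.Basic

/-!
The completion of a finite algebra is the base change to the completion, as rings.
-/

set_option autoImplicit false
set_option linter.style.haveILetI false
universe u

open scoped TensorProduct

namespace Groth.Agent.CplNormal

theorem exists_cpl_equiv {R S : Type u} [CommRing R] [IsNoetherianRing R] (I : Ideal R) [CommRing S]
    [Algebra R S] [Module.Finite R S] :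
    Nonempty (AdicCompletion I R ⊗[R] S ≃+* AdicCompletion (I.map (algebraMap R S)) S) := by
  classical
  let J := I.map (algebraMap R S)
  let T := AdicCompletion I R ⊗[R] S
  let ρ : ∀ n, R ⧸ I ^ n →ₐ[R] S ⧸ J ^ n := fun n =>
    Ideal.Quotient.liftₐ (I ^ n) (Algebra.ofId R (S ⧸ J ^ n)) fun a ha => by
      rw [Algebra.ofId_apply, IsScalarTower.algebraMap_apply R S (S ⧸ J ^ n), Ideal.Quotient.algebraMap_eq,
        Ideal.Quotient.eq_zero_iff_mem, ← Ideal.map_pow]
      exact Ideal.mem_map_of_mem _ ha
  let π : ∀ n, T →ₐ[R] S ⧸ J ^ n := fun n =>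
    Algebra.TensorProduct.lift ((ρ n).comp (AdicCompletion.evalₐ I n)) (Ideal.Quotient.mkₐ R _) fun _ _ => Commute.all _ _
  have hsub : ∀ n, (I ^ n • ⊤ : Submodule R S) = (J ^ n).restrictScalars R := fun n => by
    rw [Ideal.smul_top_eq_map, Ideal.map_pow]
  let φ : ∀ n, (S ⧸ (I ^ n • ⊤ : Submodule R S)) →ₗ[R] S ⧸ J ^ n := fun n =>
    Submodule.liftQ _ (Ideal.Quotient.mkₐ R (J ^ n)).toLinearMap fun s hs => by
      rw [hsub n] at hs
      exact Ideal.Quotient.eq_zero_iff_mem.mpr hs
  have hφ : ∀ n, Function.Injective (φ n) := fun n => by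
    rw [injective_iff_map_eq_zero]
    intro z hz
    obtain ⟨s, rfl⟩ := Submodule.Quotient.mk_surjective _ z
    refine (Submodule.Quotient.mk_eq_zero _).mpr ?_
    rw [hsub n]
    exact Ideal.Quotient.eq_zero_iff_mem.mp hz
  let e := AdicCompletion.ofTensorProductEquivOfFiniteNoetherian I S
  have hπ : ∀ (n : ℕ) (t : T), π n t = φ n (AdicCompletion.eval I S n (AdicCompletion.ofTensorProduct I S t)) := by
    intro n t
    induction t using TensorProduct.induction_on with
    | zero => simp
    | add a b ha hb => simp [map_add, ha, hb]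
    | tmul r s =>
      obtain ⟨c, rfl⟩ := AdicCompletion.mk_surjective I R r
      rw [AdicCompletion.ofTensorProduct_tmul, Algebra.TensorProduct.lift_tmul, AlgHom.comp_apply,
        AdicCompletion.evalₐ_mk]
      show algebraMap R (S ⧸ J ^ n) (c.val n) * Ideal.Quotient.mk (J ^ n) s =
        φ n (Submodule.Quotient.mk (c.val n • s))
      rw [Submodule.liftQ_apply, AlgHom.toLinearMap_apply, map_smul, Algebra.smul_def, Ideal.Quotient.mkₐ_eq_mk]
  -- compatibility of two levels
  have hfac : ∀ {m n : ℕ} (h : m ≤ n) (z : AdicCompletion I S),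
      Ideal.Quotient.factorPow J h (φ n (z.val n)) = φ m (z.val m) := by
    intro m n h z
    obtain ⟨s, hs⟩ := Submodule.Quotient.mk_surjective _ (z.val n)
    rw [← z.2 h, ← hs]
    rfl
  let ψ : T →+* AdicCompletion J S := AdicCompletion.liftRingHom J (fun n => (π n).toRingHom) fun {m n} h => by
    refine RingHom.ext fun t => ?_
    show Ideal.Quotient.factorPow J h (π n t) = π m t
    rw [hπ n t, hπ m t]
    exact hfac h _
  have hψ : ∀ n t, AdicCompletion.evalₐ J n (ψ t) = π n t := fun n t => AdicCompletion.evalₐ_liftRingHom _ _ _ n t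
  refine ⟨RingEquiv.ofBijective ψ ⟨(injective_iff_map_eq_zero ψ).mpr fun t ht => e.injective ?_, fun x => ?_⟩⟩
  · rw [map_zero]
    refine AdicCompletion.ext fun n => hφ n ?_
    rw [AdicCompletion.val_zero_apply, map_zero]
    exact ((hπ n t).symm.trans ((hψ n t).symm.trans (by rw [ht, map_zero])))
  · choose s hs using fun n => Ideal.Quotient.mk_surjective (AdicCompletion.evalₐ J n x)
    have hcompat : ∀ {a b : ℕ}, a ≤ b → s b - s a ∈ J ^ a := fun {a b} hab => by
      refine Ideal.Quotient.eq.mp ?_
      rw [hs a]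
      have h2 := congrArg (Ideal.Quotient.factorPow J hab) (hs b)
      rw [Ideal.Quotient.factor_mk] at h2
      refine h2.trans ?_
      obtain ⟨c, rfl⟩ := AdicCompletion.mk_surjective J S x
      rw [AdicCompletion.evalₐ_mk, AdicCompletion.evalₐ_mk, Ideal.Quotient.factor_mk, eq_comm, Ideal.Quotient.eq]
      have h3 := SModEq.sub_mem.mp (c.2 hab)
      rwa [Ideal.smul_top_eq_map, Algebra.algebraMap_self, Ideal.map_id, Submodule.restrictScalars_self] at h3
    let y : AdicCompletion I S := ⟨fun n => Submodule.Quotient.mk (s n), fun {a b} hab => by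
      show Submodule.Quotient.mk (s b) = Submodule.Quotient.mk (s a)
      refine (Submodule.Quotient.eq _).mpr ?_
      rw [hsub a]
      exact hcompat hab⟩
    refine ⟨e.symm y, AdicCompletion.ext_evalₐ fun n => ?_⟩
    rw [hψ n, hπ n, show AdicCompletion.ofTensorProduct I S (e.symm y) = y from e.apply_symm_apply y, ← hs n]
    rfl

end Groth.Agent.CplNormal
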