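import Groth.Agent.CplNormal.Alg
import Groth.Agent.CplNormal.Tensor
import Groth.Agent.FlatDepth.Formal
import Groth.Agent.ResExt.Completion
import Mathlib

/-!
Normality of completions passes to normal subrings.
-/

set_option autoImplicit false
set_option linter.style.haveILetI false
set_option maxHeartbeats 1000000

universe u

open scoped TensorProduct

namespace Groth.Agent.CplNormal

open Polynomial

theorem isNormalRing_tensor_sub (B : Type u) [CommRing B] [IsNoetherianRing B] (Bh : Type u) [CommRing Bh]
    [IsNoetherianRing Bh] [Algebra B Bh] [Module.Flat B Bh] (C : Type u) [CommRing C] [Algebra B C]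
    [Module.Finite B C] (hinj : Function.Injective (algebraMap B C)) (hB : EGA4.IsNormalRing B)
    (hC : EGA4.IsNormalRing (Bh ⊗[B] C)) : EGA4.IsNormalRing Bh := by
  let T := Bh ⊗[B] C
  let g : Bh →+* T := algebraMap Bh T
  haveI : IsReduced T := FlatDepth.isReduced_of_isNormalRing _ hC
  have hg : Function.Injective g := by
    have h1 := Module.Flat.lTensor_preserves_injective_linearMap (M := Bh) (Algebra.linearMap B C) hinj
    intro x y hxy
    have h2 : (Algebra.linearMap B C).lTensor Bh (x ⊗ₜ[B] (1 : B)) = (Algebra.linearMap B C).lTensor Bh (y ⊗ₜ[B] (1 : B)) := by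
      simp only [LinearMap.lTensor_tmul, Algebra.linearMap_apply, map_one]
      exact hxy
    simpa using congrArg (TensorProduct.rid B Bh) (h1 h2)
  haveI : IsReduced Bh := isReduced_of_injective g hg
  haveI : IsReduced B := FlatDepth.isReduced_of_isNormalRing _ hB
  haveI := isSemisimpleRing_fractionRing Bh
  haveI := isSemisimpleRing_fractionRing B
  haveI : IsNoetherianRing (FractionRing Bh) := IsLocalization.isNoetherianRing (nonZeroDivisors Bh) _ inferInstance
  refine NormalBC.isNormalRing_of_integrallyClosed (algebraMap Bh (FractionRing Bh))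
    (IsFractionRing.injective Bh (FractionRing Bh)) (isNormalRing_of_semisimple _)
    (minimalPrimes.finite_of_isNoetherianRing _) fun t ht => ?_
  obtain ⟨b, ⟨s, hs⟩, rfl⟩ := IsLocalization.exists_mk'_eq (nonZeroDivisors Bh) t
  obtain ⟨p, hp, hpt⟩ := ht
  have hroot : (p.scaleRoots s).eval b = 0 := by
    refine IsFractionRing.injective Bh (FractionRing Bh) ?_
    rw [map_zero, ← Polynomial.eval₂_at_apply,
      show algebraMap Bh (FractionRing Bh) b =
        algebraMap Bh (FractionRing Bh) s * IsLocalization.mk' (FractionRing Bh) b ⟨s, hs⟩ from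
        (IsLocalization.mk'_spec' (FractionRing Bh) b ⟨s, hs⟩).symm,
      Polynomial.scaleRoots_eval₂_mul, hpt, mul_zero]
  obtain ⟨c, hc⟩ : g s ∣ g b := by
    rw [← Ideal.mem_span_singleton]
    rcases subsingleton_or_nontrivial T with h | h
    · rw [Subsingleton.elim (g b) 0]
      exact Submodule.zero_mem _
    refine mem_span_of_scaleRoots hC (hp.map g) ?_
    rw [← Polynomial.map_scaleRoots p s g (by rw [hp.leadingCoeff, map_one]; exact one_ne_zero),
      Polynomial.eval_map, Polynomial.eval₂_hom, hroot, map_zero]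
  -- the image of `C` in its localisation at the non zero divisors of `B`
  let S := nonZeroDivisors B
  let q : C →ₗ[B] LocalizedModule S C := LocalizedModule.mkLinearMap S C
  let C' := LinearMap.range q
  let φ : C →ₗ[B] C' := q.rangeRestrict
  let j : B →ₗ[B] C' := φ ∘ₗ Algebra.linearMap B C
  let M := C' ⧸ LinearMap.range j
  have hφ0 : ∀ x : C, φ x = 0 ↔ ∃ m : S, m • x = 0 := fun x => by
    rw [Subtype.ext_iff]
    exact IsLocalizedModule.eq_zero_iff S q
  have hj : Function.Injective j := (injective_iff_map_eq_zero j).mpr fun x hx => by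
    obtain ⟨m, hm⟩ := (hφ0 _).mp hx
    rw [Submonoid.smul_def, ← LinearMap.map_smul, Algebra.linearMap_apply, smul_eq_mul] at hm
    exact (mem_nonZeroDivisors_iff_left.mp m.2) x (hinj (hm.trans (map_zero _).symm))
  let qM : M →ₗ[B] LocalizedModule S M := LocalizedModule.mkLinearMap S M
  have hqM : Function.Injective qM := (injective_iff_map_eq_zero qM).mpr fun z hz => by
    obtain ⟨w, rfl⟩ := Submodule.mkQ_surjective _ z
    obtain ⟨x, rfl⟩ := q.surjective_rangeRestrict w
    obtain ⟨r, hr⟩ := (IsLocalizedModule.eq_zero_iff S qM).mp hz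
    rw [Submonoid.smul_def, ← LinearMap.map_smul, Submodule.mkQ_apply, Submodule.Quotient.mk_eq_zero] at hr
    obtain ⟨b₁, hb₁⟩ := hr
    obtain ⟨m, hm⟩ := (hφ0 ((r : B) • x - algebraMap B C b₁)).mp (by
      rw [map_sub, map_smul]
      exact sub_eq_zero.mpr hb₁.symm)
    rw [Submonoid.smul_def, smul_sub, smul_smul, sub_eq_zero] at hm
    obtain ⟨P, hP, hPx⟩ := Algebra.IsIntegral.isIntegral (R := B) x
    have hroot' : (P.scaleRoots ((m : B) * r)).eval ((m : B) * b₁) = 0 := by
      refine hinj ?_
      rw [map_zero, ← Polynomial.eval₂_at_apply]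
      have e : algebraMap B C ((m : B) * b₁) = algebraMap B C ((m : B) * r) * x := by
        rw [map_mul (algebraMap B C) (m : B) b₁, ← Algebra.smul_def, ← Algebra.smul_def]
        exact hm.symm
      rw [e]
      exact Polynomial.scaleRoots_eval₂_eq_zero _ hPx
    obtain ⟨b₂, hb₂⟩ := Ideal.mem_span_singleton.mp (mem_span_of_scaleRoots hB hP hroot')
    refine (Submodule.Quotient.mk_eq_zero _).mpr ⟨b₂, ?_⟩
    show φ (algebraMap B C b₂) = φ x
    refine sub_eq_zero.mp ((map_sub φ _ _).symm.trans ((hφ0 _).mpr ⟨m * r, ?_⟩))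
    rw [Submonoid.smul_def, Submonoid.coe_mul, smul_sub, sub_eq_zero, hm, Algebra.algebraMap_eq_smul_one,
      Algebra.algebraMap_eq_smul_one, smul_smul, smul_smul, hb₂]
  -- multiplication by `s` is injective on `Bh ⊗ M`
  have hsM : Function.Injective fun z : Bh ⊗[B] M => s • z := by
    haveI : IsLocalizedModule S qM := inferInstance
    letI : Module (FractionRing B) (LocalizedModule S M) := inferInstance
    haveI : IsScalarTower B (FractionRing B) (LocalizedModule S M) := inferInstance
    haveI : Module.Projective (FractionRing B) (LocalizedModule S M) := Module.projective_of_isSemisimpleRing _ _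
    haveI : Module.Flat B (LocalizedModule S M) := Module.Flat.trans B (FractionRing B) _
    let μ : Bh →ₗ[B] Bh := (LinearMap.mulLeft Bh s).restrictScalars B
    have hμ : Function.Injective μ := fun x y hxy => by
      have : s * (x - y) = 0 := by rw [mul_sub, sub_eq_zero]; exact hxy
      exact sub_eq_zero.mp ((mem_nonZeroDivisors_iff_left.mp hs) _ this)
    have h2 := Module.Flat.rTensor_preserves_injective_linearMap (M := LocalizedModule S M) μ hμ
    have h3 := Module.Flat.lTensor_preserves_injective_linearMap (M := Bh) qM hqM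
    have h4 : ∀ z : Bh ⊗[B] M, qM.lTensor Bh (s • z) = μ.rTensor (LocalizedModule S M) (qM.lTensor Bh z) := by
      intro z
      induction z using TensorProduct.induction_on with
      | zero => simp
      | add a b ha hb => rw [smul_add, map_add, map_add, map_add, ha, hb]
      | tmul a m => rfl
    intro z z' hz
    exact h3 (h2 ((h4 z).symm.trans ((congrArg _ hz).trans (h4 z'))))
  let Φ : T →ₗ[Bh] Bh ⊗[B] C' := φ.baseChange Bh
  have hΦb : ∀ x : Bh, Φ (g x) = x ⊗ₜ φ 1 := fun x => rfl
  let Q : Bh ⊗[B] C' →ₗ[Bh] Bh ⊗[B] M := (LinearMap.range j).mkQ.baseChange Bh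
  have hQ : Q (Φ c) = 0 := hsM (by
    show s • Q (Φ c) = s • (0 : Bh ⊗[B] M)
    rw [smul_zero, ← map_smul, ← map_smul, Algebra.smul_def, show algebraMap Bh T s * c = g b from hc.symm, hΦb]
    show b ⊗ₜ[B] (LinearMap.range j).mkQ (φ 1) = 0
    rw [show (LinearMap.range j).mkQ (φ 1) = 0 from (Submodule.Quotient.mk_eq_zero _).mpr
      ⟨1, by show φ (algebraMap B C 1) = _; rw [map_one (algebraMap B C)]⟩, TensorProduct.tmul_zero])
  obtain ⟨w, hw⟩ := (lTensor_exact Bh (LinearMap.exact_map_mkQ_range j) (Submodule.mkQ_surjective _) (Φ c)).mp hQ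
  obtain ⟨β, rfl⟩ : ∃ β : Bh, β ⊗ₜ[B] (1 : B) = w := ⟨TensorProduct.rid B Bh w, (TensorProduct.rid B Bh).symm_apply_apply w⟩
  rw [LinearMap.lTensor_tmul] at hw
  have hfin : j.lTensor Bh ((s * β) ⊗ₜ[B] (1 : B)) = j.lTensor Bh (b ⊗ₜ[B] (1 : B)) := by
    rw [LinearMap.lTensor_tmul, LinearMap.lTensor_tmul, ← smul_eq_mul, ← TensorProduct.smul_tmul', hw, ← map_smul,
      Algebra.smul_def, show algebraMap Bh T s * c = g b from hc.symm, hΦb]
    show _ = b ⊗ₜ[B] φ (algebraMap B C 1)
    rw [map_one (algebraMap B C)]
  have hb : s * β = b := by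
    simpa using congrArg (TensorProduct.rid B Bh)
      (Module.Flat.lTensor_preserves_injective_linearMap (M := Bh) j hj hfin)
  exact ⟨β, (IsLocalization.eq_mk'_iff_mul_eq.mpr (by
    show algebraMap Bh (FractionRing Bh) β * algebraMap Bh (FractionRing Bh) s = algebraMap Bh (FractionRing Bh) b
    rw [← map_mul, mul_comm, hb]))⟩

theorem isNormalRing_completion (A : Type u) [CommRing A] [IsNoetherianRing A] (I : Ideal A) (B C : Type u)
    [CommRing B] [CommRing C] [Algebra A B] [Algebra A C] [Algebra B C] [IsScalarTower A B C]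
    [Module.Finite A B] [Module.Finite A C] (hinj : Function.Injective (algebraMap B C)) (hB : EGA4.IsNormalRing B)
    (hC : EGA4.IsNormalRing (AdicCompletion (I.map (algebraMap A C)) C)) :
    EGA4.IsNormalRing (AdicCompletion (I.map (algebraMap A B)) B) := by
  haveI : IsNoetherianRing B := IsNoetherianRing.of_finite A B
  haveI : Module.Finite B C := Module.Finite.of_restrictScalars_finite A B C
  haveI : IsNoetherianRing (AdicCompletion (I.map (algebraMap A B)) B) :=
    Groth.Agent.ResExt.isNoetherianRing_adicCompletion _ (IsNoetherian.noetherian _)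
  rw [IsScalarTower.algebraMap_eq A B C, ← Ideal.map_map] at hC
  obtain ⟨e⟩ := exists_cpl_equiv (I.map (algebraMap A B)) (S := C)
  exact isNormalRing_tensor_sub B _ C hinj hB (FlatDepth.isNormalRing_of_equiv e.symm hC)

end Groth.Agent.CplNormal
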